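import Groth.Agent.Lib.Conormal2.Incl
import Groth.Agent.Lib.GrMap12.Transitive
import Groth.Agent.Lib.Twist.Gen
import Groth.Agent.Lib.Ample18.Gen
import Groth.Agent.Lib.RegImm26.Noeth
import Groth.Prelude.Def_MultCurve

/-!
# A square-zero ideal is principal of order two iff its conormal module is invertible
-/

set_option autoImplicit false
set_option maxHeartbeats 1000000
set_option linter.style.haveILetI false
set_option backward.isDefEq.respectTransparency false
set_option backward.isDefEq.respectTransparency.types false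

universe u

open CategoryTheory CategoryTheory.Limits AlgebraicGeometry TensorProduct TopologicalSpace Opposite

noncomputable section

namespace Groth.Agent.MultConormal2

open Groth.Agent

variable {C : Scheme.{u}}

/-- The stalk of a square-zero ideal module as a module killed by the ideal. -/
theorem incl_mul_eq_zero {Z : Scheme.{u}} (i : Z ⟶ C) [IsClosedImmersion i] (hi : i.ker ^ 2 = ⊥) (z : Z)
    (a b : C.presheaf.stalk (i z)) (ha : a ∈ RingHom.ker (i.stalkMap z).hom)
    (hb : b ∈ RingHom.ker (i.stalkMap z).hom) : a * b = 0 := by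
  obtain ⟨U, hU, hx, -⟩ := exists_isAffineOpen_mem_and_subset (X := C) (x := i z) (U := ⊤) trivial
  rw [RegImm26.ker_stalkMap_eq i z hU hx] at ha hb
  have h := Ideal.mul_mem_mul ha hb
  rw [← Ideal.map_mul] at h
  have h2 : (RingHom.ker (i.app U).hom) * (RingHom.ker (i.app U).hom) = ⊥ := by
    have h3 := congrArg (fun J : C.IdealSheafData => J.ideal ⟨U, hU⟩) hi
    simpa [Scheme.IdealSheafData.ideal_pow, Scheme.Hom.ker_apply, pow_two] using h3
  rw [h2, Ideal.map_bot, Ideal.mem_bot] at h
  exact h

variable (I : C.IdealSheafData)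

theorem stalkMap_ι_surjective (d : I.subscheme) : Function.Surjective (I.subschemeι.stalkMap d) :=
  I.subschemeι.stalkMap_surjective d

/-- On the stalks the conormal module of a square-zero ideal is the ideal. -/
theorem bijective_stalkUnit (hI : I ^ 2 = ⊥) (d : I.subscheme) :
    Function.Bijective (M2.stalkUnit I.subschemeι d (ClSub.idealMod I.subschemeι.ker)) := by
  let R := C.presheaf.stalk (I.subschemeι d)
  let S := I.subscheme.presheaf.stalk d
  have hs : Function.Surjective (algebraMap R S) := stalkMap_ι_surjective I d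
  have hb := M2.isBaseChange_stalkUnit I.subschemeι d (ClSub.idealMod I.subschemeι.ker)
  have hsq : I.subschemeι.ker ^ 2 = ⊥ := by rw [I.ker_subschemeι]; exact hI
  refine ⟨(injective_iff_map_eq_zero _).2 fun m hm => ?_, fun t => ?_⟩
  · have h1 : (1 : S) ⊗ₜ[R] m = 0 := hb.equiv.injective (by
      rw [IsBaseChange.equiv_tmul, one_smul, map_zero]; exact hm)
    have h2 := Conormal2.mem_smul_top_of_one_tmul_eq_zero hs h1
    have hkill : RingHom.ker (algebraMap R S) • (⊤ : Submodule R _) ≤
        (⊥ : Submodule R ((ClSub.idealMod I.subschemeι.ker).presheaf.stalk (I.subschemeι d) : Type u)) := by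
      refine Submodule.smul_le.2 fun r hr x _ => (Submodule.mem_bot _).2 ?_
      apply Conormal2.incl_injective I.subschemeι (I.subschemeι d)
      rw [map_smul, map_zero, smul_eq_mul]
      exact incl_mul_eq_zero I.subschemeι hsq d r _ hr (Conormal2.incl_mem_ker _ d x)
    exact (Submodule.mem_bot _).1 (hkill h2)
  · obtain ⟨s, rfl⟩ := hb.equiv.surjective t
    induction s using TensorProduct.induction_on with
    | zero => exact ⟨0, by simp⟩
    | tmul c m =>
      obtain ⟨r, rfl⟩ := hs c
      exact ⟨r • m, by rw [IsBaseChange.equiv_tmul, map_smul, algebraMap_smul]⟩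
    | add a b ha hb' =>
      obtain ⟨m, hm⟩ := ha; obtain ⟨n, hn⟩ := hb'
      exact ⟨m + n, by rw [map_add, map_add, hm, hn]⟩

theorem smul_stalkUnit (d : I.subscheme) (r : C.presheaf.stalk (I.subschemeι d))
    (m : ((ClSub.idealMod I.subschemeι.ker).presheaf.stalk (I.subschemeι d) : Type u)) :
    I.subschemeι.stalkMap d r • M2.stalkUnit I.subschemeι d (ClSub.idealMod I.subschemeι.ker) m =
      M2.stalkUnit I.subschemeι d (ClSub.idealMod I.subschemeι.ker) (r • m) := by
  rw [map_smul]; rfl

theorem ker_app (U : C.affineOpens) : RingHom.ker (I.subschemeι.app U.1).hom = I.ideal U :=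
  I.ker_subschemeι_app U

theorem surjective_ι (hI : I ^ 2 = ⊥) : Function.Surjective I.subschemeι := by
  intro x
  have h : I.support = (⊥ : C.IdealSheafData).support := by
    rw [← hI, Scheme.IdealSheafData.support_pow_succ]
  have hx : x ∈ (I.support : Set C) := by rw [h, Scheme.IdealSheafData.support_bot]; trivial
  rw [← I.range_subschemeι] at hx
  exact hx

/-- Principal of order two implies that the conormal module is invertible. -/
theorem isInvertible_conormal (hI : I ^ 2 = ⊥) (h : MultCurve.IsPrincipalOfOrder I 2) :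
    PicF.IsInvertible (Omega.conormal I.subschemeι) := by
  intro d
  obtain ⟨U, hxU, z, hz, hann⟩ := h (I.subschemeι d)
  have hz' : z ∈ Set.range (M2.idealIncl I.subschemeι.ker (U := U.1)) := by
    rw [M2.range_idealIncl, I.ker_subschemeι, hz]
    exact Ideal.mem_span_singleton_self z
  obtain ⟨a, ha⟩ := hz'
  refine ⟨I.subschemeι ⁻¹ᵁ U.1, hxU, Twist.nonempty_restrict_iso (Omega.conormal I.subschemeι) _
    (M2.pullSec I.subschemeι (ClSub.idealMod I.subschemeι.ker) a) (Twist.isGen_of_stalk fun d' hd' => ?_)⟩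
  have hb := bijective_stalkUnit I hI d'
  have hs := stalkMap_ι_surjective I d'
  have hg := M2.stalkUnitHom_germ I.subschemeι d' (ClSub.idealMod I.subschemeι.ker) hd' a
  let g : ((ClSub.idealMod I.subschemeι.ker).presheaf.stalk (I.subschemeι d') : Type u) :=
    (ClSub.idealMod I.subschemeι.ker).presheaf.germ U.1 (I.subschemeι d') hd' a
  have hincl : Conormal2.incl I.subschemeι _ g = C.presheaf.germ U.1 (I.subschemeι d') hd' z := by
    rw [Conormal2.incl_germ, ha]
  have hgz : ∀ r : C.presheaf.stalk (I.subschemeι d'),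
      I.subschemeι.stalkMap d' r • M2.stalkUnit I.subschemeι d' _ g =
        M2.stalkUnit I.subschemeι d' _ (r • g) := fun r => smul_stalkUnit I d' r g
  suffices hh : Function.Bijective fun c : I.subscheme.presheaf.stalk d' =>
      c • M2.stalkUnit I.subschemeι d' (ClSub.idealMod I.subschemeι.ker) g by
    exact (congrArg (fun m => Function.Bijective fun c : I.subscheme.presheaf.stalk d' => c • m) hg).mp hh
  refine ⟨fun c c' hcc' => ?_, fun t => ?_⟩
  · obtain ⟨r, rfl⟩ := hs c
    obtain ⟨r', rfl⟩ := hs c'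
    simp only [hgz] at hcc'
    have h0 : (r - r') • g = 0 := by rw [sub_smul, sub_eq_zero]; exact hb.1 hcc'
    have h1 := congrArg (Conormal2.incl I.subschemeι _) h0
    rw [map_smul, map_zero, smul_eq_mul, hincl] at h1
    rw [← sub_eq_zero, ← map_sub]
    letI := C.presheaf.algebra_section_stalk (⟨I.subschemeι d', hd'⟩ : U.1)
    haveI := U.2.isLocalization_stalk ⟨I.subschemeι d', hd'⟩
    obtain ⟨w, s, hw⟩ := IsLocalization.exists_mk'_eq
      (U.2.primeIdealOf ⟨I.subschemeι d', hd'⟩).asIdeal.primeCompl (r - r')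
    rw [← hw] at h1 ⊢
    have h2 : algebraMap Γ(C, U.1) (C.presheaf.stalk (I.subschemeι d')) (w * z) = 0 := by
      rw [map_mul, ← IsLocalization.mk'_spec (C.presheaf.stalk (I.subschemeι d')) w s]
      rw [mul_right_comm]
      exact (congrArg (· * _) h1).trans (zero_mul _)
    obtain ⟨t, ht⟩ := (IsLocalization.map_eq_zero_iff
      (U.2.primeIdealOf ⟨I.subschemeι d', hd'⟩).asIdeal.primeCompl _ _).1 h2
    have ht' : (t : Γ(C, U.1)) * w ∈ RingHom.ker (I.subschemeι.app U.1).hom := by
      rw [ker_app]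
      exact hann _ (by rw [pow_one, mul_assoc]; exact ht)
    have h3 : IsLocalization.mk' (C.presheaf.stalk (I.subschemeι d')) w s *
        algebraMap Γ(C, U.1) _ ((s * t : _) : Γ(C, U.1)) ∈ RingHom.ker (I.subschemeι.stalkMap d').hom := by
      rw [Submonoid.coe_mul, map_mul, ← mul_assoc, IsLocalization.mk'_spec, ← map_mul, mul_comm w,
        RegImm26.ker_stalkMap_eq _ d' U.2 hd']
      exact Ideal.mem_map_of_mem _ ht'
    exact RingHom.mem_ker.1 ((Ideal.mul_unit_mem_iff_mem _
      (IsLocalization.map_units (C.presheaf.stalk (I.subschemeι d')) (s * t))).1 h3)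
  · obtain ⟨m, rfl⟩ := hb.2 t
    have hm := Conormal2.incl_mem_ker I.subschemeι d' m
    rw [RegImm26.ker_stalkMap_eq _ d' U.2 hd', ker_app, hz, Ideal.map_span, Set.image_singleton,
      Ideal.mem_span_singleton'] at hm
    obtain ⟨r, hr⟩ := hm
    refine ⟨I.subschemeι.stalkMap d' r, ?_⟩
    simp only [hgz]
    refine congrArg _ (Conormal2.incl_injective I.subschemeι _ ?_)
    rw [map_smul, smul_eq_mul, hincl]
    exact hr

/-- An invertible conormal module makes the ideal principal of order two. -/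
theorem isPrincipalOfOrder_two (hI : I ^ 2 = ⊥) (hN : PicF.IsInvertible (Omega.conormal I.subschemeι)) :
    MultCurve.IsPrincipalOfOrder I 2 := by
  intro x
  obtain ⟨d, rfl⟩ := surjective_ι I hI x
  obtain ⟨W, e, hdW, -, -, he⟩ := Amp.exists_isGenerator hN (V := ⊤) (x := d) trivial
  obtain ⟨n, hn⟩ := (bijective_stalkUnit I hI d).2 ((Omega.conormal I.subschemeι).presheaf.germ W d hdW e)
  obtain ⟨U₀, hx₀, s, rfl⟩ := (ClSub.idealMod I.subschemeι.ker).presheaf.exists_germ_eq n
  replace hn := (M2.stalkUnitHom_germ I.subschemeι d (ClSub.idealMod I.subschemeι.ker) hx₀ s).symm.trans hn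
  obtain ⟨W', hdW', i₁, i₂, hW'⟩ := (Omega.conormal I.subschemeι).presheaf.germ_eq d hx₀ hdW _ _ hn
  obtain ⟨T, hTo, hT⟩ := I.subschemeι.isEmbedding.isInducing.isOpen_iff.1 W'.2
  obtain ⟨U, hU, hxU, hUle⟩ := exists_isAffineOpen_mem_and_subset (X := C) (x := I.subschemeι d)
    (U := U₀ ⊓ ⟨T, hTo⟩) ⟨hx₀, (Set.ext_iff.1 hT d).2 hdW'⟩
  have hUU₀ : U ≤ U₀ := le_trans hUle inf_le_left
  let a := M1.mres (ClSub.idealMod I.subschemeι.ker) hUU₀ s
  let z : Γ(C, U) := M2.idealIncl I.subschemeι.ker a
  have hzI : z ∈ I.ideal ⟨U, hU⟩ := by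
    have h : z ∈ Set.range (M2.idealIncl I.subschemeι.ker (U := U)) := ⟨a, rfl⟩
    rwa [M2.range_idealIncl _ ⟨U, hU⟩, I.ker_subschemeι] at h
  have hgen : ∀ (d' : I.subscheme) (hd' : I.subschemeι d' ∈ U), Amp.Gen
      (M2.stalkUnit I.subschemeι d' _ ((ClSub.idealMod I.subschemeι.ker).presheaf.germ U (I.subschemeι d') hd' a)) := by
    intro d' hd'
    have hdW'' : d' ∈ W' := (Set.ext_iff.1 hT d').1 (hUle hd').2
    have h1 := M2.stalkUnitHom_germ I.subschemeι d' (ClSub.idealMod I.subschemeι.ker) (hUU₀ hd') s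
    have h2 : (ClSub.idealMod I.subschemeι.ker).presheaf.germ U (I.subschemeι d') hd' a =
        (ClSub.idealMod I.subschemeι.ker).presheaf.germ U₀ (I.subschemeι d') (hUU₀ hd') s :=
      TopCat.Presheaf.germ_res_apply _ _ _ _ _
    have h3 := congrArg ((Omega.conormal I.subschemeι).presheaf.germ W' d' hdW'') hW'
    erw [TopCat.Presheaf.germ_res_apply, TopCat.Presheaf.germ_res_apply] at h3
    rw [h2, show M2.stalkUnit I.subschemeι d' (ClSub.idealMod I.subschemeι.ker) _ = _ from h1]
    exact h3.symm ▸ Amp.gen_of_isGenerator he (i₂.le hdW'')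
  refine ⟨⟨U, hU⟩, hxU, z, le_antisymm ?_ ((Ideal.span_singleton_le_iff_mem _).2 hzI), fun c hc => ?_⟩
  · rw [hU.ideal_le_iff]
    intro y hy
    obtain ⟨d', rfl⟩ := surjective_ι I hI y
    rw [← ker_app I ⟨U, hU⟩, ← RegImm26.ker_stalkMap_eq _ d' hU hy, Ideal.map_span, Set.image_singleton]
    intro b hb
    obtain ⟨m, rfl⟩ := Conormal2.exists_incl_eq I.subschemeι d' b hb
    obtain ⟨c, hc⟩ := (hgen d' hy).2 (M2.stalkUnit I.subschemeι d' _ m)
    obtain ⟨r, rfl⟩ := stalkMap_ι_surjective I d' c
    rw [Ideal.mem_span_singleton']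
    refine ⟨r, ?_⟩
    rw [show C.presheaf.germ U (I.subschemeι d') hy z = Conormal2.incl I.subschemeι _
      ((ClSub.idealMod I.subschemeι.ker).presheaf.germ U (I.subschemeι d') hy a) from
      (Conormal2.incl_germ I.subschemeι hy a).symm, ← smul_eq_mul, ← map_smul]
    refine congrArg _ ((bijective_stalkUnit I hI d').1 ?_)
    exact (smul_stalkUnit I d' r _).symm.trans hc
  · rw [pow_one] at hc
    rw [← ker_app I ⟨U, hU⟩, RingHom.mem_ker]
    refine TopCat.Presheaf.section_ext I.subscheme.sheaf _ _ _ fun d' hd' => ?_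
    refine Eq.trans ?_ (map_zero _).symm
    refine ((Scheme.Hom.germ_stalkMap_apply I.subschemeι U d' hd' c).symm).trans ?_
    refine (hgen d' hd').1 ?_
    simp only
    rw [zero_smul, smul_stalkUnit]
    refine Eq.trans (congrArg _ (Conormal2.incl_injective I.subschemeι _ ?_)) (map_zero _)
    rw [map_smul, map_zero, smul_eq_mul, Conormal2.incl_germ, ← map_mul]
    exact (congrArg _ hc).trans (map_zero _)

end Groth.Agent.MultConormal2
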